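import Mathlib.RingTheory.MvPowerSeries.Substitution
import Mathlib.RingTheory.MvPowerSeries.Order
import Mathlib.Tactic

/-! Substitutions `Xᵢ ↦ Xᵢ wᵢ` with `wᵢ(0)` units are automorphisms of power series rings. -/

namespace Groth.Agent.KumLib

open MvPowerSeries Finsupp

variable {σ : Type*} [Finite σ] {R : Type*} [CommRing R]

/-- `p'` equals `p` up to order `m + 1`, and `p` has order at least `m` -/
def Near (m : ℕ) (p' p : MvPowerSeries σ R) : Prop :=
  ∀ d : σ →₀ ℕ, (degree d < m → coeff d p = 0) ∧ (degree d ≤ m → coeff d p' = coeff d p)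

lemma Near.mul {m n : ℕ} {p' p q' q : MvPowerSeries σ R} (hp : Near m p' p) (hq : Near n q' q) :
    Near (m + n) (p' * q') (p * q) := by
  classical
  intro d
  have hp' : ∀ e : σ →₀ ℕ, degree e < m → coeff e p' = 0 := fun e he => ((hp e).2 he.le).trans ((hp e).1 he)
  refine ⟨fun hd => ?_, fun hd => ?_⟩
  · rw [coeff_mul]
    refine Finset.sum_eq_zero fun x hx => ?_
    rw [Finset.mem_antidiagonal] at hx
    have hdeg : degree x.1 + degree x.2 = degree d := by rw [← map_add, hx]
    rcases lt_or_ge (degree x.1) m with h | h
    · rw [(hp _).1 h, zero_mul]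
    · rw [(hq _).1 (by omega), mul_zero]
  · rw [coeff_mul, coeff_mul]
    refine Finset.sum_congr rfl fun x hx => ?_
    rw [Finset.mem_antidiagonal] at hx
    have hdeg : degree x.1 + degree x.2 = degree d := by rw [← map_add, hx]
    rcases lt_or_ge (degree x.1) m with h | h
    · rw [hp' _ h, (hp _).1 h, zero_mul, zero_mul]
    rcases lt_or_ge (degree x.2) n with h2 | h2
    · rw [(hq _).2 h2.le, (hq _).1 h2, mul_zero, mul_zero]
    rw [(hp _).2 (by omega), (hq _).2 (by omega)]

lemma Near.one : Near 0 (1 : MvPowerSeries σ R) 1 := fun _ => ⟨fun h => absurd h (Nat.not_lt_zero _), fun _ => rfl⟩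

lemma Near.pow {m : ℕ} {p' p : MvPowerSeries σ R} (hp : Near m p' p) : ∀ k, Near (k * m) (p' ^ k) (p ^ k)
  | 0 => by simpa using Near.one
  | k + 1 => by rw [add_mul, one_mul, pow_succ, pow_succ]; exact (Near.pow hp k).mul hp

lemma near_prod {a : σ → MvPowerSeries σ R} (ha : ∀ i, Near 1 (a i) (X i)) (e : σ →₀ ℕ) :
    Near (degree e) (e.prod fun s k => a s ^ k) (monomial e (1 : R)) := by
  classical
  induction e using Finsupp.induction with
  | zero => simpa using Near.one
  | single_add i k e hi hk ih =>
    rw [map_add, Finsupp.degree_single, Finsupp.prod_add_index' (fun s => pow_zero _) (fun s x y => pow_add _ _ _),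
      Finsupp.prod_single_index (h := fun s n => a s ^ n) (pow_zero (a i))]
    have h1 : monomial (Finsupp.single i k + e) (1 : R) = (X i : MvPowerSeries σ R) ^ k * monomial e 1 := by
      rw [X_pow_eq, monomial_mul_monomial, one_mul]
    rw [h1]
    have := (Near.pow (ha i) k).mul ih
    rwa [mul_one] at this

lemma hasSubst_of_near {a : σ → MvPowerSeries σ R} (ha : ∀ i, Near 1 (a i) (X i)) : HasSubst a :=
  hasSubst_of_constantCoeff_zero fun i => by
    rw [← coeff_zero_eq_constantCoeff_apply, ((ha i) 0).2 (by simp), ((ha i) 0).1 (by simp)]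

/-- below the order, substitution does nothing -/
lemma coeff_subst_of_le {a : σ → MvPowerSeries σ R} (ha : ∀ i, Near 1 (a i) (X i)) (f : MvPowerSeries σ R)
    (d : σ →₀ ℕ) (hf : ∀ e : σ →₀ ℕ, degree e < degree d → coeff e f = 0) :
    coeff d (subst a f) = coeff d f := by
  classical
  rw [coeff_subst (hasSubst_of_near ha), finsum_eq_single _ d]
  · rw [((near_prod ha d) d).2 le_rfl, coeff_monomial, if_pos rfl, smul_eq_mul, mul_one]
  · intro e he
    rcases lt_or_ge (degree e) (degree d) with h | h
    · rw [hf e h, zero_smul]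
    rw [((near_prod ha e) d).2 h, coeff_monomial, if_neg (Ne.symm he), smul_zero]

theorem subst_bijective_of_near {a : σ → MvPowerSeries σ R} (ha : ∀ i, Near 1 (a i) (X i)) :
    Function.Bijective (subst a : MvPowerSeries σ R → MvPowerSeries σ R) := by
  classical
  have hs := hasSubst_of_near ha
  -- the perturbation raises the order
  have hE : ∀ (k : ℕ) (f f' : MvPowerSeries σ R),
      (∀ e : σ →₀ ℕ, degree e < k → coeff e f = coeff e f') →
      ∀ d : σ →₀ ℕ, degree d ≤ k → coeff d (subst a f) - coeff d f = coeff d (subst a f') - coeff d f' := by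
    intro k f f' h d hd
    have h1 := coeff_subst_of_le ha (f - f') d fun e he => by rw [map_sub, h e (lt_of_lt_of_le he hd), sub_self]
    rw [subst_sub hs, map_sub, map_sub] at h1
    linear_combination h1
  refine ⟨fun f f' h => ?_, fun g => ?_⟩
  · ext d
    suffices H : ∀ n, ∀ d : σ →₀ ℕ, degree d < n → coeff d f = coeff d f' from H _ d (Nat.lt_succ_self _)
    intro n
    induction n with
    | zero => exact fun d hd => absurd hd (Nat.not_lt_zero _)
    | succ n ih =>
      intro d hd
      have := hE n f f' ih d (Nat.lt_succ_iff.1 hd)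
      rw [h] at this
      linear_combination -this
  · let F : ℕ → MvPowerSeries σ R := fun n => Nat.rec 0 (fun _ f => g - (subst a f - f)) n
    have hF : ∀ n, ∀ d : σ →₀ ℕ, degree d < n → coeff d (F (n + 1)) = coeff d (F n) := by
      intro n
      induction n with
      | zero => exact fun d hd => absurd hd (Nat.not_lt_zero _)
      | succ n ih =>
        intro d hd
        change coeff d (g - (subst a (F (n + 1)) - F (n + 1))) = coeff d (g - (subst a (F n) - F n))
        simp only [map_sub]
        rw [hE n _ _ ih d (Nat.lt_succ_iff.1 hd)]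
    have hF' : ∀ n m, n ≤ m → ∀ d : σ →₀ ℕ, degree d < n → coeff d (F m) = coeff d (F n) := by
      intro n m hnm d hd
      induction m, hnm using Nat.le_induction with
      | base => rfl
      | succ m hm ih => rw [hF m d (lt_of_lt_of_le hd hm), ih]
    refine ⟨fun d => coeff d (F (degree d + 1)), ?_⟩
    set f : MvPowerSeries σ R := fun d => coeff d (F (degree d + 1)) with hf
    have hfn : ∀ n, ∀ d : σ →₀ ℕ, degree d < n → coeff d f = coeff d (F n) := fun n d hd => by
      rw [show coeff d f = coeff d (F (degree d + 1)) from rfl, hF' (degree d + 1) n hd d (Nat.lt_succ_self _)]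
    ext d
    have h1 := hE (degree d + 1) f (F (degree d + 1)) (hfn _) d (Nat.le_succ _)
    have h2 := hfn (degree d + 1 + 1) d (by omega)
    have h3 : coeff d (F (degree d + 1 + 1)) = coeff d g - (coeff d (subst a (F (degree d + 1))) - coeff d (F (degree d + 1))) := by
      change coeff d (g - (subst a (F (degree d + 1)) - F (degree d + 1))) = _
      simp only [map_sub]
    linear_combination h1 + h2 + h3

lemma near_X_mul (i : σ) {w : MvPowerSeries σ R} (hw : constantCoeff w = 1) : Near 1 (X i * w) (X i) := by
  classical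
  intro d
  refine ⟨fun hd => ?_, fun hd => ?_⟩
  · obtain rfl : d = 0 := (Finsupp.degree_eq_zero_iff d).1 (by omega)
    simp
  · have h0 : Near 0 w (1 : MvPowerSeries σ R) := fun e => ⟨fun h => absurd h (Nat.not_lt_zero _), fun h => by
      obtain rfl : e = 0 := (Finsupp.degree_eq_zero_iff e).1 (by omega)
      simp [hw]⟩
    have hX : Near 1 (X i : MvPowerSeries σ R) (X i) := fun e => ⟨fun h => by
      obtain rfl : e = 0 := (Finsupp.degree_eq_zero_iff e).1 (by omega)
      simp, fun _ => rfl⟩
    have := ((hX.mul h0) d).2 hd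
    rwa [mul_one] at this

theorem subst_bijective_of_X_mul (w : σ → MvPowerSeries σ R) (hw : ∀ i, IsUnit (constantCoeff (w i))) :
    Function.Bijective (subst (fun i => X i * w i) : MvPowerSeries σ R → MvPowerSeries σ R) := by
  have hs : HasSubst (fun i => X i * w i) := hasSubst_of_constantCoeff_zero fun i => by simp
  choose c hc using fun i => (hw i).exists_left_inv
  let r : σ → MvPowerSeries σ R := fun i => X i * C (c i)
  have hr : HasSubst r := hasSubst_of_constantCoeff_zero fun i => by simp [r]
  let r' : σ → MvPowerSeries σ R := fun i => X i * C (constantCoeff (w i))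
  have hr' : HasSubst r' := hasSubst_of_constantCoeff_zero fun i => by simp [r']
  have hC : ∀ (b : σ → MvPowerSeries σ R), HasSubst b → ∀ x : R, subst b (C x : MvPowerSeries σ R) = C x := by
    intro b hb x
    rw [← mul_one (C x), ← MvPowerSeries.smul_eq_C_mul, subst_smul hb, ← coe_substAlgHom (R := R) hb, map_one]
  have h1 : ∀ f : MvPowerSeries σ R, subst r' (subst r f) = f := fun f => by
    rw [subst_comp_subst_apply hr hr']
    rw [show (fun i => subst r' (r i)) = (X : σ → MvPowerSeries σ R) from funext fun i => by
      rw [subst_mul hr', subst_X hr', hC _ hr', mul_assoc, ← map_mul, mul_comm (constantCoeff (w i)), hc, map_one, mul_one],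
      subst_self]
    rfl
  have h2 : ∀ f : MvPowerSeries σ R, subst r (subst r' f) = f := fun f => by
    rw [subst_comp_subst_apply hr' hr]
    rw [show (fun i => subst r (r' i)) = (X : σ → MvPowerSeries σ R) from funext fun i => by
      rw [subst_mul hr, subst_X hr, hC _ hr, mul_assoc, ← map_mul, hc, map_one, mul_one],
      subst_self]
    rfl
  have hb : Function.Bijective (subst r : MvPowerSeries σ R → MvPowerSeries σ R) :=
    Function.bijective_iff_has_inverse.2 ⟨subst r', h1, h2⟩
  have hcomp : (subst (fun i => X i * w i) : MvPowerSeries σ R → MvPowerSeries σ R) ∘ subst r =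
      (subst (fun i => X i * (w i * C (c i))) : MvPowerSeries σ R → MvPowerSeries σ R) := funext fun f => by
    rw [Function.comp_apply, subst_comp_subst_apply hr hs]
    congr 1
    funext i
    rw [subst_mul hs, subst_X hs, hC _ hs, mul_assoc]
  refine (Function.Bijective.of_comp_iff
    (subst (fun i => X i * w i) : MvPowerSeries σ R → MvPowerSeries σ R) hb).1 ?_
  rw [hcomp]
  exact subst_bijective_of_near fun i => near_X_mul i (by rw [map_mul, constantCoeff_C, mul_comm, hc])

end Groth.Agent.KumLib
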