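import Groth.Agent.KumLib.InvFun

/-! Normal forms of double points in characteristic two. -/

namespace Groth.Agent.KumLib

open MvPowerSeries Finsupp

variable {σ : Type*} [Finite σ] {R : Type*} [CommRing R]

lemma subst_C' {a : σ → MvPowerSeries σ R} (ha : HasSubst a) (r : R) :
    subst a (C r : MvPowerSeries σ R) = C r := by
  rw [← mul_one (C r), ← MvPowerSeries.smul_eq_C_mul, subst_smul ha, ← coe_substAlgHom (R := R) ha, map_one]

lemma constantCoeff_subst_zero {a : σ → MvPowerSeries σ R} (ha : ∀ i, constantCoeff (a i) = 0)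
    {τ : Type*} [Finite τ] (b : τ → MvPowerSeries σ R) (hb : ∀ i, constantCoeff (b i) = 0)
    {f : MvPowerSeries τ R} (hf : constantCoeff f = 0) : constantCoeff (subst b f) = 0 :=
  constantCoeff_subst_eq_zero (hasSubst_of_constantCoeff_zero hb) hb hf

/-- cube roots of series with constant term `1`, `3` invertible -/
lemma exists_cubeRoot (h3 : IsUnit (3 : R)) (v : MvPowerSeries σ R) (hv : constantCoeff v = 0) :
    ∃ w : MvPowerSeries σ R, constantCoeff w = 1 ∧ w ^ 3 = 1 + v := by
  let T : MvPowerSeries Unit R := X ()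
  let u : MvPowerSeries Unit R := C 3 + C 3 * T + T ^ 2
  have hu : IsUnit (constantCoeff u) := by simpa [u, T] using h3
  have hb := subst_bijective_of_X_mul (fun _ : Unit => u) fun _ => hu
  have hs : HasSubst (fun _ : Unit => X () * u) := hasSubst_of_constantCoeff_zero fun _ => by simp
  obtain ⟨h, hh⟩ := hb.2 T
  have h0 : constantCoeff h = 0 := by
    obtain ⟨r, hr⟩ : ∃ r, constantCoeff h = r := ⟨_, rfl⟩
    have e1 : constantCoeff (subst (fun _ : Unit => X () * u) (h - C r)) = 0 :=
      constantCoeff_subst_eq_zero hs (fun _ => by simp) (by simp [hr])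
    rw [subst_sub hs, subst_C' hs, hh, map_sub, constantCoeff_X, constantCoeff_C, zero_sub, neg_eq_zero] at e1
    rw [hr, e1]
  have hsh : HasSubst (fun _ : Unit => h) := hasSubst_of_constantCoeff_zero fun _ => h0
  have key : subst (fun _ : Unit => h) (T * u) = T := by
    apply hb.1
    rw [subst_comp_subst_apply hsh hs, subst_X hs]
    rw [show (fun _ : Unit => subst (fun _ : Unit => X () * u) h) = (X : Unit → MvPowerSeries Unit R) from
      funext fun _ => hh, subst_self]
    rfl
  have hroot : (1 + h) ^ 3 = 1 + T := by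
    rw [subst_mul hsh, subst_X hsh] at key
    simp only [u, subst_add hsh, subst_mul hsh, subst_C' hsh, T, subst_pow hsh, subst_X hsh] at key
    simp only [T]; rw [← key]
    simp only [map_ofNat]
    ring
  have hsv : HasSubst (fun _ : Unit => v) := hasSubst_of_constantCoeff_zero fun _ => hv
  refine ⟨subst (fun _ : Unit => v) (1 + h), ?_, ?_⟩
  · rw [subst_add hsv, ← coe_substAlgHom (R := R) hsv, map_one, coe_substAlgHom, map_add, map_one,
      constantCoeff_subst_eq_zero hsv (fun _ => hv) h0, add_zero]
  · rw [← subst_pow hsv, hroot, subst_add hsv, subst_X hsv, ← coe_substAlgHom (R := R) hsv, map_one]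

lemma charTwo_add_self [CharP R 2] (x : MvPowerSeries σ R) : x + x = 0 := by
  have h : (2 : MvPowerSeries σ R) = 0 := by
    rw [← map_ofNat (C (σ := σ) (R := R)) 2, show (2 : R) = 0 from CharTwo.two_eq_zero, map_zero]
  linear_combination x * h

theorem exists_algEquiv_of_subst {a : σ → MvPowerSeries σ R} (ha : HasSubst a)
    (hb : Function.Bijective (subst a : MvPowerSeries σ R → MvPowerSeries σ R)) {f g : MvPowerSeries σ R}
    (h : subst a g = f) : ∃ φ : MvPowerSeries σ R ≃ₐ[R] MvPowerSeries σ R, φ f = g := by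
  have hb' : Function.Bijective (substAlgHom (R := R) ha : MvPowerSeries σ R → MvPowerSeries σ R) := by
    rwa [coe_substAlgHom]
  refine ⟨(AlgEquiv.ofBijective (substAlgHom (R := R) ha) hb').symm, ?_⟩
  rw [AlgEquiv.symm_apply_eq, AlgEquiv.ofBijective_apply, substAlgHom_apply, h]

end Groth.Agent.KumLib
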